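import Groth.Agent.Sga7.H515.FKLam
import Groth.Agent.Sga5.AmpleFib
import Groth.Agent.Ega2.AmpleUnit
import Groth.Agent.Ega2.AmpleAff

/-!
# `L_B ⊗ [-1]^* L_B` trivial with `L` ample implies `B` finite
-/

set_option autoImplicit false
universe u

open CategoryTheory Limits MonoidalCategory CartesianMonoidalCategory AlgebraicGeometry
open scoped MonObj

namespace Groth.Agent.Sga7.H515.FKAmple

open Groth.Agent.Grpsch Groth.Agent.Grpsch.PicGrp Groth.Agent.Grpsch.Cube Groth.Agent.Sga7.H515.FKLam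
open Groth.Agent.Fdesc.LocGen

variable {k : Type u} [Field k]

/-- If `b^*L ⊗ (b⁻¹)^*L` is trivial with `L` ample then the proper scheme `B` is finite. -/
theorem isFinite_hom {A B : Over (Spec (CommRingCat.of k))} [GrpObj A] (M : A.left.Modules)
    (hM : CohB1.IsAmple M) (b : B ⟶ A) [IsAffineHom b.left] [IsProper B.hom]
    (h : pl b (mk M hM.1) * pl b⁻¹ (mk M hM.1) = 1) : IsFinite B.hom := by
  have h1 : b⁻¹ = b ≫ GrpObj.inv := rfl
  have h2 : IsIso (GrpObj.inv : A ⟶ A) := inferInstance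
  have h3 : IsIso (GrpObj.inv : A ⟶ A).left := inferInstanceAs (IsIso ((Over.forget _).map (GrpObj.inv : A ⟶ A)))
  have h4 : IsAffineHom (b⁻¹).left := by
    rw [h1, Over.comp_left]
    infer_instance
  have a1 := Groth.Agent.Sga5.AmpleFib.isAmple_pullback b.left hM
  have a2 := Groth.Agent.Sga5.AmpleFib.isAmple_pullback (b⁻¹).left hM
  have h5 : CompactSpace B.left := a1.2.1
  have h6 : B.left.IsSeparated := by
    constructor
    have h6 : IsSeparated (B.hom ≫ terminal.from _) := inferInstance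
    rwa [Subsingleton.elim (terminal.from B.left) (B.hom ≫ terminal.from _)]
  have h7 := Groth.Agent.Ega2.Weight.isAmple_tensorMod a1 a2.1 (fun x => by
    obtain ⟨n, s, hs, -⟩ := a2.2.2 x
    exact ⟨n, s, hs⟩)
  rw [pull_mk, pull_mk, mk_mul_mk, mk_eq_one_iff] at h
  obtain ⟨e⟩ := h
  have h8 : CohB1.IsAmple (Coh.structureModule B.left) := Groth.Agent.Flat2H.FamDict.isAmple_of_iso e h7
  have h9 := Groth.Agent.Ega2.Weight.isQuasiAffine_of_isAmple_structureModule h8
  exact Groth.Agent.Sga5.AmpleFib.isFinite_of_isQuasiAffine B.hom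

end Groth.Agent.Sga7.H515.FKAmple
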