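import Groth.Agent.Grpsch.CubeTriv
import Groth.Agent.Grpsch.CubePush
import Groth.Agent.Fga.RigGrp

/-!
# The locus where a rigidified class becomes trivial is a closed subscheme
-/

set_option autoImplicit false
universe u

open CategoryTheory Limits AlgebraicGeometry

namespace Groth.Agent.Sga7.H515.FKClosed

open Groth.Agent.Grpsch Groth.Agent.Grpsch.PicGrp Groth.Agent.Grpsch.CubeData Groth.Agent.Fga.RigGrp
open Groth.Agent.Fdesc.LocGen

/-- A preimmersion induces isomorphisms on residue fields. -/
theorem isIso_residueFieldMap {X Y : Scheme.{u}} (f : X ⟶ Y) [IsPreimmersion f] (x : X) :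
    IsIso (f.residueFieldMap x) := by
  rw [ConcreteCategory.isIso_iff_bijective]
  refine ⟨RingHom.injective _, fun y => ?_⟩
  obtain ⟨z, rfl⟩ := Scheme.residue_surjective X x y
  obtain ⟨w, rfl⟩ := f.stalkMap_surjective x z
  refine ⟨Y.residue (f x) w, ?_⟩
  have := congr($(Scheme.residue_residueFieldMap f x) w)
  exact this

/-- The residue field points of the image of a preimmersion factor through it. -/
theorem exists_lift_residue {X Y : Scheme.{u}} (f : X ⟶ Y) [IsPreimmersion f] (x : X) :
    ∃ g : Spec (Y.residueField (f x)) ⟶ X, g ≫ f = Y.fromSpecResidueField (f x) := by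
  have := isIso_residueFieldMap f x
  refine ⟨inv (Spec.map (f.residueFieldMap x)) ≫ X.fromSpecResidueField x, ?_⟩
  rw [Category.assoc, IsIso.inv_comp_eq, Scheme.Hom.SpecMap_residueFieldMap_fromSpecResidueField]

/-- The locus where a class rigidified along a section becomes trivial is a closed subscheme. -/
theorem exists_closed {P S : Scheme.{u}} (f : P ⟶ S) [Flat f] [IsProper f] [LocallyOfFinitePresentation f]
    [GeometricallyIntegral f] (σ : S ⟶ P) (hσ : σ ≫ f = 𝟙 S) (c : Pic P) (hc : pull σ c = 1) :
    ∃ (W : Scheme.{u}) (j : W ⟶ S), IsClosedImmersion j ∧ LocallyOfFinitePresentation j ∧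
      ∀ (T : Scheme.{u}) (a : T ⟶ S), (∃ g : T ⟶ W, g ≫ j = a) ↔ pull (pullback.fst f a) c = 1 := by
  obtain ⟨L, hL, rfl⟩ := exists_mk c
  have hs : Triv ((Scheme.Modules.pullback σ).obj L) := by
    rw [pull_mk, mk_eq_one_iff] at hc
    exact hc
  obtain ⟨W, j, hj1, hj2, hj⟩ := S1431.result f (fun T g U => CubeData.isIso_app (pullback.snd f g) U) L
    (CubeClosed.isFinLocFree_of_isInvertible hL)
  have key : ∀ (T : Scheme.{u}) (a : T ⟶ S), (∃ g' : T ⟶ W, g' ≫ j = a) ↔
      pull (pullback.fst f a) (mk L hL) = 1 := by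
    intro T a
    rw [hj T a, pull_mk, mk_eq_one_iff]
    constructor
    · rintro ⟨N, -, ⟨e⟩⟩
      let τ : T ⟶ pullback f a := pullback.lift (a ≫ σ) (𝟙 T) (by
        rw [Category.assoc, hσ, Category.comp_id, Category.id_comp])
      have h1 : Triv ((Scheme.Modules.pullback τ).obj
          ((Scheme.Modules.pullback (pullback.fst f a)).obj L)) := by
        refine triv_square (f := a) (g := σ) ?_ L hs
        exact (pullback.lift_fst _ _ _).symm
      have h2 : Triv ((Scheme.Modules.pullback τ).obj
          ((Scheme.Modules.pullback (pullback.snd f a)).obj N)) :=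
        h1.of_iso ((Scheme.Modules.pullback τ).mapIso e)
      rw [← triv_comp, triv_congr (pullback.lift_snd _ _ _), triv_id] at h2
      exact (h2.pullback _).of_iso e.symm
    · rintro ⟨e⟩
      refine ⟨Coh.structureModule T, CubeClosed.isFinLocFree_of_isInvertible
        isInvertible_structureModule, ?_⟩
      obtain ⟨i⟩ : Triv ((Scheme.Modules.pullback (pullback.snd f a)).obj
        (Coh.structureModule T)) := Triv.pullback _ ⟨Iso.refl _⟩
      exact ⟨i ≪≫ e.symm⟩
  have hrange : Set.range j = {z : S | Nonempty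
      ((Scheme.Modules.pullback (f.fiberι z)).obj L ≅ Coh.structureModule (f.fiber z))} := by
    ext z
    have h1 := key _ (S.fromSpecResidueField z)
    rw [pull_mk, mk_eq_one_iff] at h1
    constructor
    · rintro ⟨w, rfl⟩
      exact h1.mp (exists_lift_residue j w)
    · intro hz
      obtain ⟨g', hg'⟩ := h1.mpr hz
      obtain ⟨pt⟩ : Nonempty (Spec (S.residueField z)) := inferInstance
      refine ⟨g' pt, ?_⟩
      rw [← Scheme.Hom.comp_apply, hg', Scheme.fromSpecResidueField_apply]
  have hclosed : IsClosed (Set.range j) := by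
    rw [hrange]
    exact CubeClosed.isClosed_trivialLocus f L hL
  exact ⟨W, j, IsClosedImmersion.of_isPreimmersion j hclosed, hj2, key⟩

end Groth.Agent.Sga7.H515.FKClosed
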