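import Groth.Agent.Sga7.H515.FKTransfer

/-!
# The connectedness condition for the inverse image of a curve by multiplication by `n`, and base change
-/

set_option autoImplicit false
universe u

open CategoryTheory Limits MonoidalCategory CartesianMonoidalCategory AlgebraicGeometry
open scoped MonObj

namespace Groth.Agent.Sga7.H515.FKConn

variable {K : Type u} [Field K]

/-- The inverse images of `X_Ω` by multiplication by `n` are connected, for `Ω` algebraically closed. -/
def Conn (n : ℕ) {X A : Over (Spec (CommRingCat.of K))} [GrpObj A] (ψ : X ⟶ A) : Prop :=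
  ∀ (Ω : Type u) [Field Ω] [IsAlgClosed Ω] (t : Spec (CommRingCat.of Ω) ⟶ Spec (CommRingCat.of K))
    (P : Scheme.{u}) (p : P ⟶ X.left) (q : P ⟶ Spec (CommRingCat.of Ω)), IsPullback p q X.hom t →
    ∀ (Z : Scheme.{u}) (z₁ : Z ⟶ P) (z₂ : Z ⟶ A.left),
      IsPullback z₁ z₂ (p ≫ ψ.left) (𝟙 A ^ n : A ⟶ A).left → ConnectedSpace Z

section

attribute [local instance] Functor.grpObjObj

theorem map_pow_one {S S' : Scheme.{u}} (f : S' ⟶ S) (A : Over S) [GrpObj A] (n : ℕ) :
    (Over.pullback f).map (𝟙 A ^ n) = 𝟙 ((Over.pullback f).obj A) ^ n := by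
  rw [← CategoryTheory.Functor.map_id]
  exact map_pow (Functor.homMonoidHom (Over.pullback f) (X := A) (M := A)) (𝟙 A) n

end

theorem isPullback_pow {L : Type u} [Field L] (t : Spec (CommRingCat.of L) ⟶ Spec (CommRingCat.of K))
    (A : Over (Spec (CommRingCat.of K))) [GrpObj A] (n : ℕ) :
    IsPullback (𝟙 (Red.bc t A) ^ n : Red.bc t A ⟶ Red.bc t A).left (pullback.fst A.hom t) (pullback.fst A.hom t)
      (𝟙 A ^ n : A ⟶ A).left := by
  have h := Groth.Agent.Grpsch.AbBC.isPullback_pullback_map t (𝟙 A ^ n)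
  rw [map_pow_one] at h
  exact h

/-- Base change of the connectedness condition. -/
theorem Conn.bc {n : ℕ} {X A : Over (Spec (CommRingCat.of K))} [GrpObj A] {ψ : X ⟶ A} (h : Conn n ψ)
    {L : Type u} [Field L] (s : Spec (CommRingCat.of L) ⟶ Spec (CommRingCat.of K)) :
    Conn (A := Red.bc s A) n ((Over.pullback s).map ψ) := by
  intro Ω _ _ t P p q hP Z z₁ z₂ hZ
  have h1 : IsPullback (p ≫ pullback.fst X.hom s) q X.hom (t ≫ s) :=
    (hP.flip.paste_vert (IsPullback.of_hasPullback X.hom s).flip).flip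
  have h2 := isPullback_pow s A n
  have h3 := hZ.flip.paste_horiz h2.flip
  have h4 : ((Over.pullback s).map ψ).left ≫ pullback.fst A.hom s = pullback.fst X.hom s ≫ ψ.left :=
    pullback.lift_fst _ _ _
  rw [Category.assoc, h4, ← Category.assoc] at h3
  exact h Ω (t ≫ s) P _ q h1 Z z₁ _ h3.flip

/-- The connectedness condition for one algebraically closed extension. -/
theorem Conn.isPreconnected {n : ℕ} {X A : Over (Spec (CommRingCat.of K))} [GrpObj A] {ψ : X ⟶ A} (h : Conn n ψ)
    {Ω : Type u} [Field Ω] [IsAlgClosed Ω] (t : Spec (CommRingCat.of Ω) ⟶ Spec (CommRingCat.of K)) :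
    _root_.IsPreconnected ((𝟙 (Red.bc t A) ^ n : Red.bc t A ⟶ Red.bc t A).left ⁻¹'
      Set.range ((Over.pullback t).map ψ).left) := by
  let N := (𝟙 (Red.bc t A) ^ n : Red.bc t A ⟶ Red.bc t A).left
  let ψ' := ((Over.pullback t).map ψ).left
  let Z := pullback N ψ'
  have h2 := isPullback_pow t A n
  have h3 : IsPullback (pullback.fst N ψ' ≫ pullback.fst A.hom t) (pullback.snd N ψ') (𝟙 A ^ n : A ⟶ A).left
      (ψ' ≫ pullback.fst A.hom t) := (IsPullback.of_hasPullback N ψ').paste_horiz h2.flip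
  have h4 : ψ' ≫ pullback.fst A.hom t = pullback.fst X.hom t ≫ ψ.left := pullback.lift_fst _ _ _
  rw [h4] at h3
  have h5 : ConnectedSpace Z := h Ω t _ (pullback.fst X.hom t) (pullback.snd X.hom t)
    (IsPullback.of_hasPullback X.hom t) Z _ _ h3.flip
  have h6 : Set.range (pullback.fst N ψ') = N ⁻¹' Set.range ψ' := Scheme.Pullback.range_fst N ψ'
  rw [← h6]
  exact isPreconnected_range (pullback.fst N ψ').continuous

/-- The connectedness condition from the one for the chosen pullbacks. -/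
theorem conn_of {n : ℕ} {X A : Over (Spec (CommRingCat.of K))} [GrpObj A] (ψ : X ⟶ A)
    (h : ∀ (Ω : Type u) [Field Ω] [Algebra K Ω] [IsSepClosed Ω],
        ConnectedSpace ↥(pullback (pullback.fst X.hom (Spec.map (CommRingCat.ofHom (algebraMap K Ω))) ≫ ψ.left)
          (𝟙 A ^ n : A ⟶ A).left)) : Conn n ψ := by
  intro Ω _ _ t P p q hP Z z₁ z₂ hZ
  obtain ⟨φ, rfl⟩ := Spec.map_surjective t
  let _ : Algebra K Ω := φ.hom.toAlgebra
  have h1 := h Ω
  let s : Spec (CommRingCat.of Ω) ⟶ Spec (CommRingCat.of K) := Spec.map (CommRingCat.ofHom (algebraMap K Ω))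
  have h2 := IsPullback.of_hasPullback X.hom s
  let e : pullback X.hom s ≅ P := h2.isoIsPullback _ _ hP
  have he : e.hom ≫ p = pullback.fst X.hom s := IsPullback.isoIsPullback_hom_fst _ _ _ _
  let m : A.left ⟶ A.left := (𝟙 A ^ n : A ⟶ A).left
  have h3 : IsPullback (pullback.fst X.hom s ≫ ψ.left) e.hom (𝟙 A.left) (p ≫ ψ.left) :=
    IsPullback.of_vert_isIso ⟨by rw [Category.comp_id, ← Category.assoc, he]⟩
  have h4 := (IsPullback.of_hasPullback (pullback.fst X.hom s ≫ ψ.left) m).flip.paste_vert h3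
  rw [Category.comp_id] at h4
  let e' := h4.flip.isoIsPullback _ _ hZ
  exact e'.hom.homeomorph.surjective.connectedSpace e'.hom.homeomorph.continuous

end Groth.Agent.Sga7.H515.FKConn
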