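import Groth.Agent.Ega3B.ChiFib
import Groth.Agent.Fga.JacFib
import Groth.Agent.Picfga.CurveP1

/-!
# A class on a family of curves over a connected base, trivial on one fibre, has degree zero
-/

set_option autoImplicit false
universe u

open CategoryTheory Limits AlgebraicGeometry

namespace Groth.Agent.Sga7.H515.FKDeg

open Groth.Agent.Grpsch Groth.Agent.Grpsch.PicGrp Groth.Agent.Fga.RigGrp

/-- A class over a connected base, trivial on one fibre, has fibre degree zero. -/
theorem hasFibreDegreeZeroCl {K : Type u} [Field K] {C : Scheme.{u}} (f : C ⟶ Spec (CommRingCat.of K))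
    (hX : Curve.IsSmoothProperCurve K C f) (T T₀ : Over (Spec (CommRingCat.of K))) [ConnectedSpace T.left]
    [Nonempty T₀.left] (o : T₀ ⟶ T) (c : Pic (PicF.XT f T)) (hc : pull (PicF.XTmap f o) c = 1) :
    FGA.HasFibreDegreeZeroCl f T (toCl c) := by
  have hp : IsProper f := hX.1
  obtain ⟨P⟩ := Groth.Agent.Picfga.CurveP1.exists_p1Data hX
  obtain ⟨M, hM, rfl⟩ := exists_mk c
  refine ⟨M, rfl, ?_⟩
  have h1 := Groth.Agent.Ega3B.ChiFib.isClopen_degZero P T hM
  obtain ⟨t₀⟩ : Nonempty T₀.left := inferInstance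
  have hBC := Groth.Agent.Fga.JacFib.bcStep f
  have h2 : o.left t₀ ∈ {t : T.left |
      FGA.eulerCharLE (T.left.residueField t) (FGA.fibreAt f T t).left (FGA.restrFibre f T t M) 1 =
        FGA.eulerCharLE (T.left.residueField t) (FGA.fibreAt f T t).left
          (Coh.structureModule _) 1} := by
    change FGA.eulerCharLE _ _ _ 1 = FGA.eulerCharLE _ _ _ 1
    rw [Groth.Agent.Fga.JacFib.euler_eq_chiAt f T _ M hM, Groth.Agent.Fga.JacFib.euler_structure_eq,
      ← Groth.Agent.Fga.JacSurj.chiAt_pull hBC, ← Groth.Agent.Fga.JacSurj.chiAt_pull hBC, hc, map_one]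
  have h3 := h1.eq_univ ⟨_, h2⟩
  intro t
  have : t ∈ (Set.univ : Set T.left) := trivial
  rw [← h3] at this
  exact this

end Groth.Agent.Sga7.H515.FKDeg
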