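import Groth.Agent.Sga3B.RedIdComp
import Groth.Agent.Sga3.H828.SubgrpObj
import Groth.Agent.Sga7.H620.TorsCount
import Groth.Agent.Sga7.H5.AVCurve
import Groth.Agent.Fga.DimLt

/-!
# Closed subgroups of an abelian variety through a curve with connected covers

`surjective_of_conn`: `k` algebraically closed, `A` an abelian variety, `ψ : X ⟶ A` with `[n]⁻¹(ψ(X))` connected for
some `n ≥ 2` invertible in `k`: a closed subgroup through which `ψ · ψ(σ)⁻¹` factors is everything.
-/

set_option autoImplicit false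
universe u

open CategoryTheory Limits MonoidalCategory CartesianMonoidalCategory AlgebraicGeometry
open scoped MonObj

namespace Groth.Agent.Sga7.H515.FKGen

open Groth.Agent.Books.AlgPts Groth.Agent.Books.AlgPtsGrp Groth.Agent.Sga7.H620.TorsCount

variable {k : Type u} [Field k]

/-- A closed immersion of the same finite dimension into an irreducible scheme is surjective. -/
theorem range_eq_univ {X Y : Scheme.{u}} [IrreducibleSpace Y] (f : X ⟶ Y) [IsClosedImmersion f] (n : ℕ)
    (hX : topologicalKrullDim X = n) (hY : topologicalKrullDim Y = n) : Set.range f = Set.univ := by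
  by_contra hne
  have hcl : IsClosed (Set.range f) := f.isClosedEmbedding.isClosed_range
  have h1 : topologicalKrullDim (Set.range f) = n := by
    rw [← hX]
    exact (IsHomeomorph.topologicalKrullDim_eq _ f.isEmbedding.toHomeomorph.isHomeomorph).symm
  have h2 := Groth.Agent.Fga.DimLt.exists_ltSeries_succ hcl hne h1.ge
  rw [hY] at h2
  have h3 : n + 1 ≤ n := by exact_mod_cast h2
  omega

/-- The dimension of an integral scheme locally of finite type over a field is a natural number. -/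
theorem exists_dim {X : Scheme.{u}} (f : X ⟶ Spec (CommRingCat.of k)) [LocallyOfFiniteType f] [IrreducibleSpace X] :
    ∃ n : ℕ, topologicalKrullDim X = n := by
  let _ : X.Over (Spec (CommRingCat.of k)) := ⟨f⟩
  have : LocallyOfFiniteType (X ↘ Spec (CommRingCat.of k)) := inferInstanceAs (LocallyOfFiniteType f)
  exact ⟨_, Groth.Agent.VarietyB.DimSch.topologicalKrullDim_eq_trd k⟩

theorem one_eq (A : Over (Spec (CommRingCat.of k))) [GrpObj A] :
    (1 : 𝟙_ (Over (Spec (CommRingCat.of k))) ⟶ A) = η[A] := by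
  change toUnit _ ≫ η[A] = η[A]
  rw [toUnit_unique (toUnit _) (𝟙 _), Category.id_comp]

/-- The translation by a point. -/
noncomputable def tr {A : Over (Spec (CommRingCat.of k))} [GrpObj A] (a : 𝟙_ (Over (Spec (CommRingCat.of k))) ⟶ A) :
    A ⟶ A := (toUnit A ≫ a) * 𝟙 A

theorem comp_tr {A T : Over (Spec (CommRingCat.of k))} [GrpObj A] (a : 𝟙_ (Over (Spec (CommRingCat.of k))) ⟶ A)
    (x : T ⟶ A) : x ≫ tr a = (toUnit T ≫ a) * x := by
  rw [tr, MonObj.comp_mul, Category.comp_id, ← Category.assoc, toUnit_unique (x ≫ toUnit A) (toUnit T)]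

theorem tr_comp_pow {A : Over (Spec (CommRingCat.of k))} [GrpObj A] [IsCommMonObj A]
    (a : 𝟙_ (Over (Spec (CommRingCat.of k))) ⟶ A) (n : ℕ) :
    tr a ≫ (𝟙 A ^ n) = (𝟙 A ^ n) ≫ tr (a ^ n) := by
  rw [comp_tr, MonObj.comp_pow, Category.comp_id, tr, mul_pow, MonObj.comp_pow]

theorem comp_pow {A T : Over (Spec (CommRingCat.of k))} [GrpObj A] (x : T ⟶ A) (n : ℕ) :
    x ≫ (𝟙 A ^ n) = x ^ n := by
  rw [MonObj.comp_pow, Category.comp_id]

/-- The `n`-th power as a group homomorphism on points, for commutative `A`. -/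
noncomputable def comapPow {A H : Over (Spec (CommRingCat.of k))} [GrpObj A] [IsCommMonObj A] [GrpObj H]
    (i : H ⟶ A) [IsMonHom i] (n : ℕ) (T : Over (Spec (CommRingCat.of k))) : Subgroup (T ⟶ A) where
  carrier := {x | ∃ t : T ⟶ H, t ≫ i = x ^ n}
  one_mem' := ⟨1, by rw [MonObj.one_comp, one_pow]⟩
  mul_mem' := by
    rintro x y ⟨s, hs⟩ ⟨t, ht⟩
    exact ⟨s * t, by rw [MonObj.mul_comp, hs, ht, mul_pow]⟩
  inv_mem' := by
    rintro x ⟨s, hs⟩
    exact ⟨s⁻¹, by rw [GrpObj.inv_comp, hs, inv_pow]⟩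

/-- The inverse image of a closed subgroup by multiplication by `n`. -/
theorem exists_preimage {A H : Over (Spec (CommRingCat.of k))} [GrpObj A] [IsCommMonObj A] [GrpObj H]
    (i : H ⟶ A) [IsMonHom i] [IsClosedImmersion i.left] (n : ℕ) :
    ∃ (M : Over (Spec (CommRingCat.of k))) (_ : GrpObj M) (m : M ⟶ A), IsMonHom m ∧ IsClosedImmersion m.left ∧
      Set.range m.left = (𝟙 A ^ n : A ⟶ A).left ⁻¹' Set.range i.left := by
  let j := pullback.fst (𝟙 A ^ n : A ⟶ A).left i.left
  have hj : IsClosedImmersion j := inferInstance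
  let M : Over (Spec (CommRingCat.of k)) := Over.mk (j ≫ A.hom)
  let m : M ⟶ A := Over.homMk j rfl
  have hm : IsClosedImmersion m.left := hj
  have hmono : Mono m := Over.mono_of_mono_left m (hk := inferInstanceAs (Mono j))
  have key : ∀ (T : Over (Spec (CommRingCat.of k))) (x : T ⟶ A), x ∈ comapPow i n T ↔ ∃ t : T ⟶ M, t ≫ m = x := by
    intro T x
    constructor
    · rintro ⟨t, ht⟩
      have h1 : x.left ≫ (𝟙 A ^ n : A ⟶ A).left = t.left ≫ i.left := by
        rw [← Over.comp_left, ← Over.comp_left, comp_pow, ht]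
      refine ⟨Over.homMk (pullback.lift x.left t.left h1) ?_, ?_⟩
      · change pullback.lift x.left t.left h1 ≫ pullback.fst _ _ ≫ A.hom = _
        rw [pullback.lift_fst_assoc, Over.w]
      · ext1
        exact pullback.lift_fst _ _ _
    · rintro ⟨t, rfl⟩
      refine ⟨Over.homMk (t.left ≫ pullback.snd (𝟙 A ^ n : A ⟶ A).left i.left) ?_, ?_⟩
      · have h1 : pullback.snd (𝟙 A ^ n : A ⟶ A).left i.left ≫ H.hom = j ≫ A.hom := by
          rw [← Over.w i, ← Category.assoc, ← pullback.condition, Category.assoc, Over.w]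
        rw [Category.assoc, h1]
        exact Over.w t
      · refine Eq.trans ?_ (comp_pow (t ≫ m) n)
        ext1
        change (t.left ≫ pullback.snd (𝟙 A ^ n : A ⟶ A).left i.left) ≫ i.left = (t.left ≫ j) ≫ _
        rw [Category.assoc, Category.assoc, ← pullback.condition]
  obtain ⟨gM, hM⟩ := Groth.Agent.Sga3.H828.SubgrpObj.exists_grpObj (comapPow i n) (by
    rintro X Y f x ⟨t, ht⟩
    exact ⟨f ≫ t, by rw [Category.assoc, ht, MonObj.comp_pow]⟩) m key
  refine ⟨M, gM, m, hM, hm, ?_⟩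
  change Set.range (pullback.fst (𝟙 A ^ n : A ⟶ A).left i.left) = _
  rw [Scheme.Pullback.range_fst]

/-- A closed subgroup through the normalised curve is everything. -/
theorem surjective_of_conn [IsAlgClosed k] (A : Over (Spec (CommRingCat.of k))) [GrpObj A] [IsCommMonObj A]
    [IsProper A.hom] [GeometricallyIntegral A.hom] (n : ℕ) (hn : (n : k) ≠ 0) (hn2 : 2 ≤ n)
    {X : Over (Spec (CommRingCat.of k))} (ψ : X ⟶ A) (σ : 𝟙_ (Over (Spec (CommRingCat.of k))) ⟶ X)
    (hconn : _root_.IsPreconnected ((𝟙 A ^ n : A ⟶ A).left ⁻¹' Set.range ψ.left))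
    (H : Over (Spec (CommRingCat.of k))) [GrpObj H] (i : H ⟶ A) [IsMonHom i] [IsClosedImmersion i.left]
    (hf : ∃ t : X ⟶ H, t ≫ i = (toUnit X ≫ (σ ≫ ψ)⁻¹) * ψ) : Surjective i.left := by
  have hsurjn : Surjective (𝟙 A ^ n : A ⟶ A).left := Groth.Agent.Sga7.H5.AVCurve.surjective_pow A hn
  have hA : LocallyOfFiniteType A.hom := inferInstance
  -- a root of the base point
  obtain ⟨a, ha⟩ := exists_comp_eq_of_pt_mem_range (𝟙 A ^ n : A ⟶ A) (σ ≫ ψ) (hsurjn.1 _)
  rw [comp_pow] at ha
  obtain ⟨M, gM, m, hmm, hmc, hmr⟩ := exists_preimage i n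
  have hMft : LocallyOfFiniteType M.hom := by
    rw [← Over.w m]; infer_instance
  obtain ⟨U, gU, u, hum, huc, hUs, hUc, hur⟩ := Groth.Agent.Sga3B.RedIdComp.exists_redIdComp M
  let D : Set A.left := (𝟙 A ^ n : A ⟶ A).left ⁻¹' Set.range ψ.left
  let D' : Set A.left := (tr a⁻¹).left '' D
  have hD' : _root_.IsPreconnected D' := hconn.image _ (tr a⁻¹).left.continuous.continuousOn
  have hD'r : D' ⊆ Set.range m.left := by
    rw [hmr]
    rintro _ ⟨z, ⟨x, hx⟩, rfl⟩
    obtain ⟨t, ht⟩ := hf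
    have h1 := congrArg (fun g => g.left) (tr_comp_pow a⁻¹ n)
    simp only [Over.comp_left] at h1
    have h2 : ψ ≫ tr (a⁻¹ ^ n) = t ≫ i := by
      rw [comp_tr, inv_pow, ha, ht]
    refine ⟨t.left x, ?_⟩
    rw [← Scheme.Hom.comp_apply, ← Scheme.Hom.comp_apply, h1, Scheme.Hom.comp_apply _ (tr (a⁻¹ ^ n)).left, ← hx,
      ← Scheme.Hom.comp_apply, ← Over.comp_left, ← Over.comp_left, h2]
  have htors : ∀ x : 𝟙_ (Over (Spec (CommRingCat.of k))) ⟶ A, x ^ n = 1 → pt x ∈ D' := by
    intro x hx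
    refine ⟨pt (a * x), ?_, ?_⟩
    · refine ⟨pt σ, ?_⟩
      rw [← pt_comp, ← pt_comp, comp_pow, mul_pow, hx, mul_one, ha]
    · rw [← pt_comp, comp_tr, ← mul_assoc, toUnit_unique (toUnit _) (𝟙 _), Category.id_comp, inv_mul_cancel, one_mul]
  have hDU : D' ⊆ Set.range (u ≫ m).left := by
    have h1 : _root_.IsPreconnected (m.left ⁻¹' D') := by
      rw [← m.left.isEmbedding.isInducing.isPreconnected_image, Set.image_preimage_eq_of_subset hD'r]
      exact hD'
    have h2 : pt (1 : 𝟙_ (Over (Spec (CommRingCat.of k))) ⟶ M) ∈ m.left ⁻¹' D' := by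
      change m.left _ ∈ D'
      rw [← pt_comp, MonObj.one_comp]
      exact htors 1 (one_pow n)
    rw [one_eq] at h2
    have h4 := h1.subset_connectedComponent h2
    rw [← hur] at h4
    intro z hz
    obtain ⟨w, rfl⟩ := hD'r hz
    obtain ⟨v, rfl⟩ := h4 (show w ∈ m.left ⁻¹' D' from hz)
    exact ⟨v, rfl⟩
  have hcl : IsClosedImmersion (u ≫ m).left := by rw [Over.comp_left]; infer_instance
  have hUp : IsProper U.hom := by
    rw [← Over.w (u ≫ m)]; infer_instance
  have hUgi : GeometricallyIntegral U.hom := geometricallyIntegral_of_smooth_connected U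
  have hAi : IsIntegral A.left := GeometricallyIntegral.isIntegral_of_subsingleton A.hom
  have hUi : IsIntegral U.left := GeometricallyIntegral.isIntegral_of_subsingleton U.hom
  obtain ⟨g, hg⟩ := exists_dim A.hom
  obtain ⟨g', hg'⟩ := exists_dim U.hom
  have humono : Mono (u ≫ m) := mono_of_isClosedImmersion _
  have hred : IsReduced (Over.mk (𝟙 (Spec (CommRingCat.of k)))).left :=
    inferInstanceAs (IsReduced (Spec (CommRingCat.of k)))
  have hbij : Function.Bijective (fun y : {y : Over.mk (𝟙 (Spec (CommRingCat.of k))) ⟶ U // y ^ n = 1} =>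
      (⟨y.1 ≫ (u ≫ m), by rw [← MonObj.pow_comp, y.2, MonObj.one_comp]⟩ :
        {x : Over.mk (𝟙 (Spec (CommRingCat.of k))) ⟶ A // x ^ n = 1})) := by
    constructor
    · intro y y' h
      exact Subtype.ext ((cancel_mono (u ≫ m)).1 (congrArg Subtype.val h))
    · rintro ⟨x, hx⟩
      have h1 : pt x ∈ Set.range (u ≫ m).left := hDU (htors x hx)
      obtain ⟨y, hy⟩ := exists_lift (u ≫ m) x (by
        rintro _ ⟨z, rfl⟩
        have : z = IsLocalRing.closedPoint k := Subsingleton.elim (α := PrimeSpectrum k) _ _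
        rw [this]
        exact h1)
      refine ⟨⟨y, ?_⟩, Subtype.ext hy⟩
      rw [← cancel_mono (u ≫ m), MonObj.pow_comp, hy, hx, MonObj.one_comp]
  have hcard := Nat.card_eq_of_bijective _ hbij
  rw [Groth.Agent.Etcore.AbTors.card_torsion U g' hg' n hn, Groth.Agent.Etcore.AbTors.card_torsion A g hg n hn] at hcard
  have hgg : g' = g := by
    have := Nat.pow_right_injective hn2 hcard
    omega
  subst hgg
  have huniv : Set.range (u ≫ m).left = Set.univ := range_eq_univ _ g' hg' hg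
  refine ⟨fun z => ?_⟩
  obtain ⟨w, rfl⟩ := hsurjn.1 z
  obtain ⟨v, hv⟩ : w ∈ Set.range (u ≫ m).left := by rw [huniv]; trivial
  have h5 : w ∈ Set.range m.left := ⟨u.left v, by rw [← hv, Over.comp_left, Scheme.Hom.comp_apply]⟩
  rw [hmr] at h5
  exact h5

/-- A closed subgroup through the normalised curve is everything. -/
theorem exists_section_of_conn [IsAlgClosed k] (A : Over (Spec (CommRingCat.of k))) [GrpObj A] [IsCommMonObj A]
    [IsProper A.hom] [GeometricallyIntegral A.hom] (n : ℕ) (hn : (n : k) ≠ 0) (hn2 : 2 ≤ n)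
    {X : Over (Spec (CommRingCat.of k))} (ψ : X ⟶ A) (σ : 𝟙_ (Over (Spec (CommRingCat.of k))) ⟶ X)
    (hconn : _root_.IsPreconnected ((𝟙 A ^ n : A ⟶ A).left ⁻¹' Set.range ψ.left))
    (H : Over (Spec (CommRingCat.of k))) [GrpObj H] (i : H ⟶ A) [IsMonHom i] [IsClosedImmersion i.left]
    (hf : ∃ t : X ⟶ H, t ≫ i = (toUnit X ≫ (σ ≫ ψ)⁻¹) * ψ) : ∃ s : A ⟶ H, s ≫ i = 𝟙 A := by
  have := surjective_of_conn A n hn hn2 ψ σ hconn H i hf
  have hAi : IsIntegral A.left := GeometricallyIntegral.isIntegral_of_subsingleton A.hom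
  refine exists_lift i (𝟙 A) ?_
  rw [Set.range_eq_univ.2 this.1]
  exact Set.subset_univ _

end Groth.Agent.Sga7.H515.FKGen
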