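import Groth.Agent.Sga7.H515.FKSub
import Groth.Agent.Sga7.H515.FKGen
import Groth.Agent.Sga7.H515.FKAmple

/-!
# Finiteness of the kernel of `A → Pic⁰(C)` over an algebraically closed field
-/

set_option autoImplicit false
universe u

open CategoryTheory Limits MonoidalCategory CartesianMonoidalCategory AlgebraicGeometry
open scoped MonObj

namespace Groth.Agent.Sga7.H515.FKFinite

open Groth.Agent.Grpsch Groth.Agent.Grpsch.PicGrp Groth.Agent.Grpsch.Cube Groth.Agent.Sga7.H515.FKLam
open Groth.Agent.Sga7.H515.FKSub Groth.Agent.Sga7.H515.FKGen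
open Groth.Agent.Books.AlgPts Groth.Agent.Books.AlgPtsGrp Groth.Agent.Sga7.H620.TorsCount

variable {k : Type u} [Field k]

/-- An irreducible scheme finite over a field has one point. -/
theorem subsingleton_of_isFinite {X : Scheme.{u}} (f : X ⟶ Spec (CommRingCat.of k)) [IsFinite f]
    [IrreducibleSpace X] : Subsingleton X := by
  have hs : Subsingleton ↥(Spec (CommRingCat.of k)) := inferInstanceAs (Subsingleton (PrimeSpectrum k))
  obtain ⟨x₀⟩ : Nonempty X := inferInstance
  have h1 := f.isDiscrete_preimage_singleton (f.base x₀)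
  have h2 : f.base ⁻¹' {f.base x₀} = Set.univ := by
    ext x
    simp only [Set.mem_preimage, Set.mem_singleton_iff, Set.mem_univ, iff_true]
    exact Subsingleton.elim _ _
  rw [h2] at h1
  have h3 : DiscreteTopology X := isDiscrete_univ_iff.1 h1
  refine ⟨fun x y => ?_⟩
  obtain ⟨z, hzx, hzy⟩ := nonempty_preirreducible_inter (X := X) (isOpen_discrete {x}) (isOpen_discrete {y})
    ⟨x, rfl⟩ ⟨y, rfl⟩
  rw [Set.mem_singleton_iff] at hzx hzy
  rw [← hzx, hzy]

/-- A group scheme of finite type over an algebraically closed field whose unit point is a connected component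
has finitely many rational points. -/
theorem finite_points [IsAlgClosed k] (W : Over (Spec (CommRingCat.of k))) [GrpObj W] [LocallyOfFiniteType W.hom]
    [CompactSpace W.left] (h : connectedComponent (pt η[W]) ⊆ {pt η[W]}) :
    Finite (𝟙_ (Over (Spec (CommRingCat.of k))) ⟶ W) := by
  have h1 : IsLocallyNoetherian W.left := LocallyOfFiniteType.isLocallyNoetherian W.hom
  have h2 : IsNoetherian W.left := { }
  have h3 : TopologicalSpace.NoetherianSpace W.left := inferInstance
  have h4 : Finite (irreducibleComponents W.left) := TopologicalSpace.NoetherianSpace.finite_irreducibleComponents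
  refine Finite.of_injective (fun x => (⟨irreducibleComponent (pt x), irreducibleComponent_mem_irreducibleComponents _⟩ :
    irreducibleComponents W.left)) fun x y hxy => ?_
  have h5 : pt y ∈ irreducibleComponent (pt x) := by
    rw [show irreducibleComponent (pt x) = irreducibleComponent (pt y) from congrArg Subtype.val hxy]
    exact mem_irreducibleComponent
  have h6 : _root_.IsPreconnected ((tr x⁻¹).left '' irreducibleComponent (pt x)) :=
    isIrreducible_irreducibleComponent.isPreirreducible.isPreconnected.image _ (tr x⁻¹).left.continuous.continuousOn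
  have h7 : ∀ z : 𝟙_ (Over (Spec (CommRingCat.of k))) ⟶ W, (tr x⁻¹).left (pt z) = pt (x⁻¹ * z) := by
    intro z
    rw [← pt_comp, comp_tr, toUnit_unique (toUnit _) (𝟙 _), Category.id_comp]
  have h8 : pt (1 : 𝟙_ (Over (Spec (CommRingCat.of k))) ⟶ W) = pt η[W] := by rw [one_eq]
  have h9 := h6.subset_connectedComponent (x := pt η[W]) ⟨pt x, mem_irreducibleComponent, by
    rw [h7, inv_mul_cancel, h8]⟩
  have h10 : pt (x⁻¹ * y) = pt (1 : 𝟙_ (Over (Spec (CommRingCat.of k))) ⟶ W) := by
    rw [h8]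
    exact h (h9 ⟨pt y, h5, h7 y⟩)
  have h11 := pt_injective h10
  rw [inv_mul_eq_one] at h11
  exact h11

/-- **Finiteness of the kernel.** -/
theorem finite_ker [IsAlgClosed k] (A : Over (Spec (CommRingCat.of k))) [GrpObj A] [IsCommMonObj A]
    [IsProper A.hom] [GeometricallyIntegral A.hom] (M : A.left.Modules) (hM : CohB1.IsAmple M)
    (n : ℕ) (hn : (n : k) ≠ 0) (hn2 : 2 ≤ n)
    (X : Over (Spec (CommRingCat.of k))) [IsProper X.hom] [GeometricallyIntegral X.hom]
    (σ : 𝟙_ (Over (Spec (CommRingCat.of k))) ⟶ X) (ψ : X ⟶ A)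
    (hconn : _root_.IsPreconnected ((𝟙 A ^ n : A ⟶ A).left ⁻¹' Set.range ψ.left)) :
    {x : 𝟙_ (Over (Spec (CommRingCat.of k))) ⟶ A |
      cl (mk M hM.1) ((toUnit X ≫ (σ ≫ ψ)⁻¹) * ψ) x = 1}.Finite := by
  set L := mk M hM.1 with hL
  set φ : X ⟶ A := (toUnit X ≫ (σ ≫ ψ)⁻¹) * ψ with hφdef
  have hφ : σ ≫ φ = 1 := by
    rw [hφdef, MonObj.comp_mul, ← Category.assoc, toUnit_unique (σ ≫ toUnit X) (𝟙 _), Category.id_comp,
      inv_mul_cancel]
  obtain ⟨W, gW, i, hi, hic, key⟩ := exists_ker L X σ φ hφ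
  have hWft : LocallyOfFiniteType W.hom := by
    rw [← Over.w i]; infer_instance
  have hWp : IsProper W.hom := by
    rw [← Over.w i]; infer_instance
  have hWc : CompactSpace W.left := QuasiCompact.compactSpace_of_compactSpace W.hom
  obtain ⟨U, gU, u, hum, huc, hUs, hUc, hur⟩ := Groth.Agent.Sga3B.RedIdComp.exists_redIdComp W
  have hcl : IsClosedImmersion (u ≫ i).left := by rw [Over.comp_left]; infer_instance
  have hUp : IsProper U.hom := by
    rw [← Over.w (u ≫ i)]; infer_instance
  have hUgi : GeometricallyIntegral U.hom := geometricallyIntegral_of_smooth_connected U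
  have hUi : IsIntegral U.left := GeometricallyIntegral.isIntegral_of_subsingleton U.hom
  have h1 : cl L φ (u ≫ i) = 1 := (key U (u ≫ i)).1 ⟨u, rfl⟩
  have h2 : cl L (u ≫ i) φ = 1 := cl_swap L φ (u ≫ i) h1
  obtain ⟨W', gW', i', hi', hic', key'⟩ := exists_ker L U (1 : 𝟙_ (Over (Spec (CommRingCat.of k))) ⟶ U) (u ≫ i)
    (by rw [MonObj.one_comp])
  obtain ⟨s, hs⟩ := exists_section_of_conn A n hn hn2 ψ σ hconn W' i' ((key' X φ).2 h2)
  have h3 : cl L (u ≫ i) (𝟙 A) = 1 := (key' A (𝟙 A)).1 ⟨s, hs⟩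
  have h4 : pl (lift (𝟙 U) (u ≫ i)⁻¹) (cl L (u ≫ i) (𝟙 A)) = 1 := by rw [h3, map_one]
  rw [pl_lift_cl, Category.id_comp, Category.comp_id, lam_inv_self, inv_eq_one] at h4
  have h5 : IsFinite U.hom := FKAmple.isFinite_hom M hM (u ≫ i) h4
  have h6 : Subsingleton U.left := subsingleton_of_isFinite U.hom
  have h7 : connectedComponent (pt η[W]) ⊆ {pt η[W]} := by
    rw [← hur]
    rintro _ ⟨z, rfl⟩
    have h8 : pt η[W] ∈ Set.range u.left := by rw [hur]; exact mem_connectedComponent
    obtain ⟨z', hz'⟩ := h8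
    rw [Set.mem_singleton_iff, ← hz', Subsingleton.elim z z']
  have h8 := finite_points W h7
  refine (Set.finite_range fun t : 𝟙_ (Over (Spec (CommRingCat.of k))) ⟶ W => t ≫ i).subset ?_
  intro x hx
  obtain ⟨t, ht⟩ := (key _ x).2 hx
  exact ⟨t, ht⟩

end Groth.Agent.Sga7.H515.FKFinite
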