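import Groth.Agent.Grpsch.Cube

/-!
# The biadditive class attached to a line bundle on an abelian variety

`lam L a b = (a b)^*L ⊗ a^*L⁻¹ ⊗ b^*L⁻¹` for `a b : T ⟶ A`; biadditive and symmetric by the theorem of the cube.
-/

set_option autoImplicit false
universe u

open CategoryTheory Limits MonoidalCategory CartesianMonoidalCategory AlgebraicGeometry
open scoped MonObj

namespace Groth.Agent.Sga7.H515.FKLam

open Groth.Agent.Grpsch Groth.Agent.Grpsch.PicGrp Groth.Agent.Grpsch.Cube

variable {K : Type u} [Field K] {A : Over (Spec (CommRingCat.of K))} [GrpObj A]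

/-- The biadditive class attached to `L`. -/
noncomputable def lam (L : Pic A.left) {T : Over (Spec (CommRingCat.of K))} (a b : T ⟶ A) : Pic T.left :=
  pl (a * b) L * (pl a L * pl b L)⁻¹

theorem pl_lam (L : Pic A.left) {T T' : Over (Spec (CommRingCat.of K))} (f : T' ⟶ T) (a b : T ⟶ A) :
    pl f (lam L a b) = lam L (f ≫ a) (f ≫ b) := by
  simp only [lam, map_mul, map_inv, ← pl_comp, MonObj.comp_mul]

theorem lam_one_left (L : Pic A.left) {T : Over (Spec (CommRingCat.of K))} (b : T ⟶ A) : lam L 1 b = 1 := by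
  rw [lam, one_mul, pl_one, one_mul, mul_inv_cancel]

theorem lam_one_right (L : Pic A.left) {T : Over (Spec (CommRingCat.of K))} (a : T ⟶ A) : lam L a 1 = 1 := by
  rw [lam, mul_one, pl_one, mul_one, mul_inv_cancel]

theorem lam_comm [IsCommMonObj A] (L : Pic A.left) {T : Over (Spec (CommRingCat.of K))} (a b : T ⟶ A) :
    lam L a b = lam L b a := by
  rw [lam, lam, mul_comm a b, mul_comm (pl a L)]

theorem lam_inv_self (L : Pic A.left) {T : Over (Spec (CommRingCat.of K))} (a : T ⟶ A) :
    lam L a a⁻¹ = (pl a L * pl a⁻¹ L)⁻¹ := by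
  rw [lam, mul_inv_cancel, pl_one, one_mul]

variable [IsProper A.hom] [GeometricallyIntegral A.hom]

theorem lam_mul_left (L : Pic A.left) {T : Over (Spec (CommRingCat.of K))} (a b c : T ⟶ A) :
    lam L (a * b) c = lam L a c * lam L b c := by
  have h := cube L a b c
  simp only [lam]
  rw [← div_eq_mul_inv, ← div_eq_mul_inv, ← div_eq_mul_inv, div_mul_div_comm, div_eq_div_iff_mul_eq_mul]
  calc pl (a * b * c) L * (pl a L * pl c L * (pl b L * pl c L))
      = (pl (a * b * c) L * pl a L * pl b L * pl c L) * pl c L := by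
        simp only [mul_comm, mul_left_comm]
    _ = (pl (a * b) L * pl (a * c) L * pl (b * c) L) * pl c L := by rw [h]
    _ = _ := by simp only [mul_comm, mul_left_comm]

theorem lam_mul_right (L : Pic A.left) {T : Over (Spec (CommRingCat.of K))} (a b c : T ⟶ A) :
    lam L a (b * c) = lam L a b * lam L a c := by
  have h := cube L a b c
  simp only [lam]
  rw [← div_eq_mul_inv, ← div_eq_mul_inv, ← div_eq_mul_inv, div_mul_div_comm, div_eq_div_iff_mul_eq_mul,
    ← mul_assoc a b c]
  calc pl (a * b * c) L * (pl a L * pl b L * (pl a L * pl c L))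
      = (pl (a * b * c) L * pl a L * pl b L * pl c L) * pl a L := by
        simp only [mul_comm, mul_left_comm]
    _ = (pl (a * b) L * pl (a * c) L * pl (b * c) L) * pl a L := by rw [h]
    _ = _ := by simp only [mul_comm, mul_left_comm]

end Groth.Agent.Sga7.H515.FKLam
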