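import Groth.Agent.FlatA.EtaleSections
import Mathlib.RingTheory.RingHom.Etale
import Mathlib.RingTheory.Etale.Field
import Mathlib.RingTheory.Jacobson.Ring

/-!
# Nonempty smooth schemes over a field have points over finite separable extensions
-/

set_option autoImplicit false
universe u

open CategoryTheory AlgebraicGeometry

namespace Groth.Agent.Sga7.H515.SepPoint

/-- A nonempty smooth scheme over a field has a point over a finite separable extension. -/
theorem exists_point {K : Type u} [Field K] {X : Scheme.{u}} (f : X ⟶ Spec (CommRingCat.of K)) [Smooth f]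
    [Nonempty X] : ∃ (K₁ : Type u) (_ : Field K₁) (_ : Algebra K K₁) (_ : FiniteDimensional K K₁)
      (_ : Algebra.IsSeparable K K₁) (s : Spec (CommRingCat.of K₁) ⟶ X),
      s ≫ f = Spec.map (CommRingCat.ofHom (algebraMap K K₁)) := by
  obtain ⟨x⟩ : Nonempty X := inferInstance
  obtain ⟨S', g, s', hg, hs', h, hh⟩ :=
    Groth.Agent.FlatA.EtaleSections.exists_section f (f x) ⟨x, rfl⟩
  obtain ⟨_, ⟨U, hU, rfl⟩, hsU, -⟩ := S'.isBasis_affineOpens.exists_subset_of_mem_open
    (Set.mem_univ s') isOpen_univ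
  have hU : IsAffineOpen U := hU
  rw [← hU.range_fromSpec] at hsU
  obtain ⟨q₁, hq₁⟩ := hsU
  obtain ⟨ψ, hψ⟩ := Spec.map_surjective (hU.fromSpec ≫ g)
  have het : Etale (Spec.map ψ) := by
    rw [hψ]; infer_instance
  have hψe : ψ.hom.Etale := HasRingHomProperty.Spec_iff.mp het
  let A := Γ(S', U)
  have hnt : Nontrivial A := PrimeSpectrum.nonempty_iff_nontrivial.1 ⟨q₁⟩
  let _ : Algebra K A := ψ.hom.toAlgebra
  have hA : Algebra.Etale K A := hψe
  obtain ⟨m, hm⟩ := Ideal.exists_maximal A
  let _ : Field (A ⧸ m) := Ideal.Quotient.field m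
  have h1 : Algebra.FiniteType K (A ⧸ m) := inferInstance
  have h2 : Module.Finite K (A ⧸ m) := finite_of_finite_type_of_isJacobsonRing K (A ⧸ m)
  have h3 : Algebra.IsSeparable K (A ⧸ m) := inferInstance
  refine ⟨A ⧸ m, inferInstance, inferInstance, h2, h3,
    Spec.map (CommRingCat.ofHom (Ideal.Quotient.mk m)) ≫ hU.fromSpec ≫ h, ?_⟩
  rw [Category.assoc, Category.assoc, hh, ← hψ, ← Spec.map_comp]
  rfl

end Groth.Agent.Sga7.H515.SepPoint
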