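import Groth.Agent.Sga7.H515.FKConn
import Groth.Agent.Sga7.H515.FKDeg
import Groth.Agent.Sga7.H515.SepPoint
import Groth.Agent.Sga7.H732.Hedge
import Groth.Agent.Sga7.H5.AVZero
import Groth.Agent.Sga7.H5.AVCurve
import Groth.Agent.S1841
import Groth.Agent.Etcore.DimBaseChange

/-!
# (FK) of `Sga7.H732.Hedge` over infinite fields

`fk_inf`: an abelian variety over an infinite field has, after a finite separable extension, a homomorphism with
finite kernel to the Jacobian of a curve (conditional on S3719 through `Sga7.H5.HypConn.Stmt`).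
-/

set_option autoImplicit false
universe u

open CategoryTheory Limits MonoidalCategory CartesianMonoidalCategory AlgebraicGeometry
open scoped MonObj

namespace Groth.Agent.Sga7.H515.FKMain

open Groth.Agent.Grpsch Groth.Agent.Grpsch.PicGrp Groth.Agent.Grpsch.Cube Groth.Agent.Fga.RigGrp
open Groth.Agent.Sga7.H515.FKLam Groth.Agent.Sga7.H515.FKSub Groth.Agent.Sga7.H515.FKConn
open Groth.Agent.Sga7.H732.Hedge

section

variable {K : Type u} [Field K]

theorem natCast_ne_zero {L : Type u} [Field L] (t : Spec (CommRingCat.of L) ⟶ Spec (CommRingCat.of K)) {n : ℕ}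
    (hn : (n : K) ≠ 0) : (n : L) ≠ 0 := by
  obtain ⟨φ, rfl⟩ := Spec.map_surjective t
  intro h
  apply hn
  apply φ.hom.injective
  rw [map_natCast, map_zero]
  exact h

/-- The class attached to a curve in an abelian variety. -/
theorem exists_class (A : Over (Spec (CommRingCat.of K))) [GrpObj A] [IsProper A.hom]
    [GeometricallyIntegral A.hom] (X : Over (Spec (CommRingCat.of K)))
    (hX : Curve.IsSmoothProperCurve K X.left X.hom) [GeometricallyIntegral X.hom]
    (σ : Spec (CommRingCat.of K) ⟶ X.left) (hσ : σ ≫ X.hom = 𝟙 _) (ψ : X ⟶ A) (n : ℕ) (hn : (n : K) ≠ 0)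
    (hn2 : 2 ≤ n) (hC : Conn n ψ) :
    ∃ c : Pic (PicF.XT X.hom A), c ∈ Rg X.hom σ hσ A ∧ FGA.HasFibreDegreeZeroCl X.hom A (toCl c) ∧
      (∀ {T : Over (Spec (CommRingCat.of K))} (g h : T ⟶ A),
        pull (PicF.XTmap X.hom (g * h)) c = pull (PicF.XTmap X.hom g) c * pull (PicF.XTmap X.hom h) c) ∧
      ∀ (Ω : Type u) [Field Ω] [IsAlgClosed Ω] (t : Spec (CommRingCat.of Ω) ⟶ Spec (CommRingCat.of K)),
        {x : Over.mk t ⟶ A | pull (PicF.XTmap X.hom x) c = 1}.Finite := by
  have hXp : IsProper X.hom := hX.1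
  obtain ⟨M, hM⟩ := Groth.Agent.S1841.result K A
  let L := mk M hM.1
  let σ' : 𝟙_ (Over (Spec (CommRingCat.of K))) ⟶ X := Over.homMk σ hσ
  let φ : X ⟶ A := (toUnit X ≫ (σ' ≫ ψ)⁻¹) * ψ
  have hφ : σ' ≫ φ = 1 := by
    change σ' ≫ ((toUnit X ≫ (σ' ≫ ψ)⁻¹) * ψ) = 1
    rw [MonObj.comp_mul, ← Category.assoc, toUnit_unique (σ' ≫ toUnit X) (𝟙 _), Category.id_comp,
      inv_mul_cancel]
  let c : Pic (PicF.XT X.hom A) := cl L φ (𝟙 A)
  have hc : ∀ {T : Over (Spec (CommRingCat.of K))} (x : T ⟶ A), pull (PicF.XTmap X.hom x) c = cl L φ x := by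
    intro T x
    have := pl_whisker_cl L φ (𝟙 A) x
    rw [Category.comp_id] at this
    exact this
  refine ⟨c, ?_, ?_, ?_, ?_⟩
  · rw [mem_Rg]
    have : PicF.secT X.hom σ hσ A = (lift (toUnit A ≫ σ') (𝟙 A)).left := rfl
    rw [this]
    change pl (lift (toUnit A ≫ σ') (𝟙 A)) (cl L φ (𝟙 A)) = 1
    rw [pl_lift_cl, Category.assoc, hφ, MonObj.comp_one, lam_one_left]
  · have hint : IsIntegral A.left := GeometricallyIntegral.isIntegral_of_subsingleton A.hom
    have hconn : ConnectedSpace A.left := IrreducibleSpace.connectedSpace _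
    have hne : Nonempty (𝟙_ (Over (Spec (CommRingCat.of K)))).left :=
      inferInstanceAs (Nonempty (Spec (CommRingCat.of K)))
    refine FKDeg.hasFibreDegreeZeroCl X.hom hX A (𝟙_ _) (1 : 𝟙_ _ ⟶ A) c ?_
    rw [hc, cl_one]
  · intro T g h
    rw [hc, hc, hc, cl_mul]
  · intro Ω _ _ t
    have h1 := FKTransfer.finite_bc t A M hM n (natCast_ne_zero t hn) hn2 X σ' ψ (hC.isPreconnected t)
    refine h1.subset ?_
    intro x hx
    rw [Set.mem_ofPred_eq, hc] at hx
    exact hx

/-- Base change of a smooth proper geometrically integral curve. -/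
theorem isSmoothProperCurve_bc {L : Type u} [Field L] (s : Spec (CommRingCat.of L) ⟶ Spec (CommRingCat.of K))
    (X : Over (Spec (CommRingCat.of K))) (hX : Curve.IsSmoothProperCurve K X.left X.hom)
    [GeometricallyIntegral X.hom] : Curve.IsSmoothProperCurve L (Red.bc s X).left (Red.bc s X).hom := by
  obtain ⟨h1, h2, h3, h4⟩ := hX
  refine ⟨inferInstanceAs (IsProper (pullback.snd X.hom s)), inferInstanceAs (Smooth (pullback.snd X.hom s)), ?_, ?_⟩
  · exact GeometricallyIntegral.geometrically_isIntegral _ _ _ (IsPullback.of_hasPullback X.hom s)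
  · rw [← h4]
    exact Groth.Agent.Etcore.DimBaseChange.topologicalKrullDim_eq (Field.toIsField K) (Field.toIsField L) X.hom
      (pullback.snd X.hom s) (pullback.fst X.hom s) s (IsPullback.of_hasPullback X.hom s)

end

/-- **(FK) over infinite fields.** -/
theorem fk_inf (H : Groth.Agent.Sga7.H5.HypConn.Stmt.{u}) (K : Type u) [Field K] [Infinite K]
    (A : Over (Spec (CommRingCat.of K))) [GrpObj A] [IsProper A.hom] [GeometricallyIntegral A.hom] :
    ∃ (K₁ : Type u) (_ : Field K₁) (_ : Algebra K K₁) (_ : FiniteDimensional K K₁)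
      (_ : Algebra.IsSeparable K K₁) (n : ℕ) (C : Fin n → Scheme.{u})
      (f : ∀ i, C i ⟶ Spec (CommRingCat.of K₁))
      (σ : ∀ i, Spec (CommRingCat.of K₁) ⟶ C i) (hσ : ∀ i, σ i ≫ f i = 𝟙 _)
      (c : ∀ i, Pic (PicF.XT (f i) (Red.bc (Spec.map (CommRingCat.ofHom (algebraMap K K₁))) A))),
      FKData K₁ (Red.bc (Spec.map (CommRingCat.ofHom (algebraMap K K₁))) A) n C f σ hσ c := by
  have hcomm : IsCommMonObj A := isCommMonObj_of_isProper_of_geometricallyIntegral A
  by_cases hd : topologicalKrullDim A.left = 0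
  · refine ⟨K, inferInstance, inferInstance, inferInstance, inferInstance, 0, fun i => i.elim0, fun i => i.elim0,
      fun i => i.elim0, fun i => i.elim0, fun i => i.elim0, ?_⟩
    refine ⟨fun i => i.elim0, fun i => i.elim0, fun i => i.elim0, fun i => i.elim0, fun i => i.elim0, ?_⟩
    intro Ω _ _ t
    have h1 := Groth.Agent.Sga7.H5.AVZero.isIso_hom A hd
    let s : Spec (CommRingCat.of K) ⟶ Spec (CommRingCat.of K) := Spec.map (CommRingCat.ofHom (algebraMap K K))
    have h2 : IsIso (Red.bc s A).hom := inferInstanceAs (IsIso (pullback.snd A.hom s))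
    have h3 : Subsingleton (Over.mk t ⟶ Red.bc s A) := ⟨fun x y => by
      apply Over.OverMorphism.ext
      rw [← cancel_mono (Red.bc s A).hom, Over.w, Over.w]⟩
    exact Set.toFinite _
  · obtain ⟨C, f, i, hi, hC1, hC2, hC3, hC4⟩ := Groth.Agent.Sga7.H5.AVCurve.exists_curve_av H A hd
    have hsm : Smooth f := hC1.2.1
    have hint : IsIntegral C := hC1.2.2.1
    obtain ⟨K₁, _, _, hfin, hsep, p, hp⟩ := SepPoint.exists_point f
    let s : Spec (CommRingCat.of K₁) ⟶ Spec (CommRingCat.of K) := Spec.map (CommRingCat.ofHom (algebraMap K K₁))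
    obtain ⟨n, hn, hn2⟩ : ∃ n : ℕ, (n : K) ≠ 0 ∧ 2 ≤ n := by
      by_cases h : ((2 : ℕ) : K) = 0
      · refine ⟨3, fun h3 => ?_, by norm_num⟩
        have : (1 : K) = ((3 : ℕ) : K) - ((2 : ℕ) : K) := by push_cast; ring
        rw [h, h3, sub_zero] at this
        exact one_ne_zero this
      · exact ⟨2, h, le_rfl⟩
    have hconn : Conn n i := conn_of i (fun Ω _ _ _ => hC4 Ω n hn)
    let X : Over (Spec (CommRingCat.of K)) := Over.mk f
    have hXgi : GeometricallyIntegral X.hom := hC2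
    let X₁ := Red.bc s X
    have hX₁ : Curve.IsSmoothProperCurve K₁ X₁.left X₁.hom := isSmoothProperCurve_bc s X hC1
    have hX₁gi : GeometricallyIntegral X₁.hom := inferInstanceAs (GeometricallyIntegral (pullback.snd X.hom s))
    let A₁ := Red.bc s A
    have hA₁ : IsProper A₁.hom := inferInstanceAs (IsProper (pullback.snd A.hom s))
    have hA₁gi : GeometricallyIntegral A₁.hom := inferInstanceAs (GeometricallyIntegral (pullback.snd A.hom s))
    let σ₁ : Spec (CommRingCat.of K₁) ⟶ X₁.left := pullback.lift p (𝟙 _) (by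
      rw [Category.id_comp]; exact hp)
    have hσ₁ : σ₁ ≫ X₁.hom = 𝟙 _ := pullback.lift_snd _ _ _
    obtain ⟨c, hc1, hc2, hc3, hc4⟩ := exists_class A₁ X₁ hX₁ σ₁ hσ₁ ((Over.pullback s).map i) n
      (natCast_ne_zero s hn) hn2 (hconn.bc s)
    refine ⟨K₁, inferInstance, inferInstance, hfin, hsep, 1, fun _ => X₁.left, fun _ => X₁.hom, fun _ => σ₁,
      fun _ => hσ₁, fun _ => c, ?_⟩
    refine ⟨fun _ => hX₁, fun _ => hX₁gi, fun _ => hc1, fun _ => hc2, fun _ => hc3, ?_⟩
    intro Ω _ _ t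
    refine (hc4 Ω t).subset fun x hx => hx 0

end Groth.Agent.Sga7.H515.FKMain
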