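import Groth.Agent.Sga7.H515.FKLam
import Groth.Agent.Sga7.H515.FKClosed
import Groth.Agent.Sga3.H828.SubgrpObj
import Groth.Agent.Picfga.HilbPull

/-!
# The closed subgroup `{x : λ(φ, x) = 1}` of an abelian variety
-/

set_option autoImplicit false
universe u

open CategoryTheory Limits MonoidalCategory CartesianMonoidalCategory AlgebraicGeometry
open scoped MonObj

namespace Groth.Agent.Sga7.H515.FKSub

open Groth.Agent.Grpsch Groth.Agent.Grpsch.PicGrp Groth.Agent.Grpsch.Cube Groth.Agent.Sga7.H515.FKLam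

variable {K : Type u} [Field K] {A : Over (Spec (CommRingCat.of K))} [GrpObj A]

/-- The class `λ(φ, x)` on `X × T`. -/
noncomputable def cl (L : Pic A.left) {X T : Over (Spec (CommRingCat.of K))} (φ : X ⟶ A) (x : T ⟶ A) :
    Pic (X ⊗ T).left := lam L (fst X T ≫ φ) (snd X T ≫ x)

theorem pl_cl (L : Pic A.left) {X T X' T' : Over (Spec (CommRingCat.of K))} (φ : X ⟶ A) (x : T ⟶ A)
    (u : X' ⟶ X) (v : T' ⟶ T) : pl (u ⊗ₘ v) (cl L φ x) = cl L (u ≫ φ) (v ≫ x) := by
  rw [cl, cl, pl_lam, ← Category.assoc, ← Category.assoc, tensorHom_fst, tensorHom_snd, Category.assoc,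
    Category.assoc]

theorem pl_whisker_cl (L : Pic A.left) {X T T' : Over (Spec (CommRingCat.of K))} (φ : X ⟶ A) (x : T ⟶ A)
    (v : T' ⟶ T) : pl (X ◁ v) (cl L φ x) = cl L φ (v ≫ x) := by
  rw [cl, cl, pl_lam, ← Category.assoc, ← Category.assoc, whiskerLeft_fst, whiskerLeft_snd, Category.assoc]

theorem pl_lift_cl (L : Pic A.left) {X T Y : Over (Spec (CommRingCat.of K))} (φ : X ⟶ A) (x : T ⟶ A)
    (u : Y ⟶ X) (v : Y ⟶ T) : pl (lift u v) (cl L φ x) = lam L (u ≫ φ) (v ≫ x) := by
  rw [cl, pl_lam, ← Category.assoc, ← Category.assoc, lift_fst, lift_snd]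

theorem cl_one (L : Pic A.left) {X T : Over (Spec (CommRingCat.of K))} (φ : X ⟶ A) :
    cl L φ (1 : T ⟶ A) = 1 := by
  rw [cl, MonObj.comp_one, lam_one_right]

theorem cl_swap [IsCommMonObj A] (L : Pic A.left) {X T : Over (Spec (CommRingCat.of K))} (φ : X ⟶ A) (x : T ⟶ A)
    (h : cl L φ x = 1) : cl L x φ = 1 := by
  have h1 : pl (lift (snd T X) (fst T X)) (cl L φ x) = 1 := by rw [h, map_one]
  rw [pl_lift_cl] at h1
  rw [cl, lam_comm]
  exact h1

variable [IsProper A.hom] [GeometricallyIntegral A.hom]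

theorem cl_mul (L : Pic A.left) {X T : Over (Spec (CommRingCat.of K))} (φ : X ⟶ A) (x y : T ⟶ A) :
    cl L φ (x * y) = cl L φ x * cl L φ y := by
  rw [cl, cl, cl, MonObj.comp_mul, lam_mul_right]

theorem cl_inv (L : Pic A.left) {X T : Over (Spec (CommRingCat.of K))} (φ : X ⟶ A) (x : T ⟶ A) :
    cl L φ x⁻¹ = (cl L φ x)⁻¹ := by
  rw [eq_inv_iff_mul_eq_one, ← cl_mul, inv_mul_cancel, cl_one]

/-- The points killed by `φ`. -/
noncomputable def ker (L : Pic A.left) {X : Over (Spec (CommRingCat.of K))} (φ : X ⟶ A)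
    (T : Over (Spec (CommRingCat.of K))) : Subgroup (T ⟶ A) where
  carrier := {x | cl L φ x = 1}
  one_mem' := cl_one L φ
  mul_mem' {x y} hx hy := by
    change cl L φ (x * y) = 1
    rw [cl_mul, show cl L φ x = 1 from hx, show cl L φ y = 1 from hy, one_mul]
  inv_mem' {x} hx := by
    change cl L φ x⁻¹ = 1
    rw [cl_inv, show cl L φ x = 1 from hx, inv_one]

theorem mem_ker {L : Pic A.left} {X : Over (Spec (CommRingCat.of K))} {φ : X ⟶ A}
    {T : Over (Spec (CommRingCat.of K))} {x : T ⟶ A} : x ∈ ker L φ T ↔ cl L φ x = 1 := Iff.rfl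

theorem comp_mem_ker {L : Pic A.left} {X : Over (Spec (CommRingCat.of K))} {φ : X ⟶ A}
    {T T' : Over (Spec (CommRingCat.of K))} (v : T' ⟶ T) (x : T ⟶ A) (hx : x ∈ ker L φ T) :
    v ≫ x ∈ ker L φ T' := by
  rw [mem_ker] at hx ⊢
  rw [← pl_whisker_cl, hx, map_one]

/-- The kernel is a closed subgroup scheme. -/
theorem exists_ker (L : Pic A.left) (X : Over (Spec (CommRingCat.of K))) [IsProper X.hom]
    [GeometricallyIntegral X.hom] (σ : 𝟙_ (Over (Spec (CommRingCat.of K))) ⟶ X) (φ : X ⟶ A) (hφ : σ ≫ φ = 1) :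
    ∃ (W : Over (Spec (CommRingCat.of K))) (_ : GrpObj W) (i : W ⟶ A), IsMonHom i ∧ IsClosedImmersion i.left ∧
      ∀ (T : Over (Spec (CommRingCat.of K))) (x : T ⟶ A), (∃ t : T ⟶ W, t ≫ i = x) ↔ cl L φ x = 1 := by
  have e1 : (snd X A).left = pullback.snd X.hom A.hom := rfl
  have h1 : IsProper (snd X A).left := inferInstanceAs (IsProper (pullback.snd X.hom A.hom))
  have h2 : GeometricallyIntegral (snd X A).left := inferInstanceAs (GeometricallyIntegral (pullback.snd X.hom A.hom))
  have h3 : Flat (snd X A).left := inferInstanceAs (Flat (pullback.snd X.hom A.hom))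
  have h0 : LocallyOfFinitePresentation X.hom := inferInstance
  have h4 : LocallyOfFinitePresentation (snd X A).left :=
    inferInstanceAs (LocallyOfFinitePresentation (pullback.snd X.hom A.hom))
  let s : A ⟶ X ⊗ A := lift (toUnit A ≫ σ) (𝟙 A)
  obtain ⟨W, j, hj1, -, hj⟩ := FKClosed.exists_closed (snd X A).left s.left (by
      rw [← Over.comp_left, lift_snd, Over.id_left]) (cl L φ (𝟙 A)) (by
      change pl s (cl L φ (𝟙 A)) = 1
      rw [pl_lift_cl, Category.assoc, hφ, MonObj.comp_one, lam_one_left])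
  let W' : Over (Spec (CommRingCat.of K)) := Over.mk (j ≫ A.hom)
  let i : W' ⟶ A := Over.homMk j rfl
  have hmono : Mono i := Over.mono_of_mono_left i (hk := inferInstanceAs (Mono j))
  have key : ∀ (T : Over (Spec (CommRingCat.of K))) (x : T ⟶ A), (∃ t : T ⟶ W', t ≫ i = x) ↔ cl L φ x = 1 := by
    intro T x
    have hpb : IsPullback (X ◁ x).left (snd X T).left (snd X A).left x.left :=
      Groth.Agent.Picfga.HilbPull.isPullback_XTmap X.hom x
    let e := hpb.isoIsPullback _ _ (IsPullback.of_hasPullback (snd X A).left x.left)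
    have he : e.hom ≫ pullback.fst (snd X A).left x.left = (X ◁ x).left :=
      IsPullback.isoIsPullback_hom_fst _ _ _ _
    have h5 : cl L φ x = pull e.hom (pull (pullback.fst (snd X A).left x.left) (cl L φ (𝟙 A))) := by
      rw [← pull_comp, he]
      have := pl_whisker_cl L φ (𝟙 A) x
      rw [Category.comp_id] at this
      exact this.symm
    have h6 : cl L φ x = 1 ↔ pull (pullback.fst (snd X A).left x.left) (cl L φ (𝟙 A)) = 1 := by
      rw [h5]
      constructor
      · intro h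
        have := congrArg (pull e.inv) h
        rwa [← pull_comp, e.inv_hom_id, pull_id, map_one] at this
      · intro h
        rw [h, map_one]
    rw [h6, ← hj]
    constructor
    · rintro ⟨t, rfl⟩
      exact ⟨t.left, rfl⟩
    · rintro ⟨g, hg⟩
      refine ⟨Over.homMk g ?_, ?_⟩
      · change g ≫ j ≫ A.hom = _
        rw [reassoc_of% hg, Over.w]
      · ext1
        exact hg
  obtain ⟨gW, hi⟩ := Groth.Agent.Sga3.H828.SubgrpObj.exists_grpObj (ker L φ)
    (fun f x hx => comp_mem_ker f x hx) i (fun T x => (key T x).symm)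
  exact ⟨W', gW, i, hi, hj1, key⟩

end Groth.Agent.Sga7.H515.FKSub
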