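import Groth.Agent.Sga7.H515.FKFinite
import Groth.Agent.Sga3B.BcPts

/-!
# Finiteness of the kernel of `A → Pic⁰(C)` on points with values in an algebraically closed extension
-/

set_option autoImplicit false
universe u

open CategoryTheory Limits MonoidalCategory CartesianMonoidalCategory AlgebraicGeometry
open scoped MonObj

namespace Groth.Agent.Sga7.H515.FKTransfer

open Groth.Agent.Grpsch Groth.Agent.Grpsch.PicGrp Groth.Agent.Grpsch.Cube Groth.Agent.Sga7.H515.FKLam
open Groth.Agent.Sga7.H515.FKSub Groth.Agent.Sga3B.BcPts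

variable {K Ω : Type u} [Field K] [Field Ω] (t : Spec (CommRingCat.of Ω) ⟶ Spec (CommRingCat.of K))

/-- `T`-points of `A_Ω` as points of `A`. -/
noncomputable def dn {A : Over (Spec (CommRingCat.of K))} {T : Over (Spec (CommRingCat.of Ω))} (y : T ⟶ Red.bc t A) :
    (Over.map t).obj T ⟶ A := (bcEquiv t T A).symm y

theorem dn_left {A : Over (Spec (CommRingCat.of K))} {T : Over (Spec (CommRingCat.of Ω))} (y : T ⟶ Red.bc t A) :
    (dn t y).left = y.left ≫ pullback.fst A.hom t := by
  simp [dn, bcEquiv, Over.mapPullbackAdj]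

theorem dn_mul {A : Over (Spec (CommRingCat.of K))} [GrpObj A] {T : Over (Spec (CommRingCat.of Ω))}
    (x y : T ⟶ Red.bc t A) : dn t (x * y) = dn t x * dn t y :=
  map_mul (bcMulEquiv t T A).symm x y

theorem dn_comp_map {A B : Over (Spec (CommRingCat.of K))} {T : Over (Spec (CommRingCat.of Ω))}
    (x : T ⟶ Red.bc t A) (g : A ⟶ B) : dn t (x ≫ (Over.pullback t).map g) = dn t x ≫ g :=
  bcEquiv_symm_comp t x g

theorem comp_dn {A : Over (Spec (CommRingCat.of K))} {T T' : Over (Spec (CommRingCat.of Ω))}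
    (g : T' ⟶ T) (x : T ⟶ Red.bc t A) : dn t (g ≫ x) = (Over.map t).map g ≫ dn t x :=
  comp_bcEquiv_symm t g x

theorem pl_bc {A : Over (Spec (CommRingCat.of K))} (L : Pic A.left) {T : Over (Spec (CommRingCat.of Ω))}
    (y : T ⟶ Red.bc t A) : pl y (pull (pullback.fst A.hom t) L) = (pl (dn t y) L : Pic T.left) := by
  have h : pull (dn t y).left L = pull (y.left ≫ pullback.fst A.hom t) L := by rw [dn_left]
  exact (pull_comp _ _ _).symm.trans h.symm

theorem lam_bc {A : Over (Spec (CommRingCat.of K))} [GrpObj A] (L : Pic A.left) {T : Over (Spec (CommRingCat.of Ω))}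
    (a b : T ⟶ Red.bc t A) : lam (pull (pullback.fst A.hom t) L : Pic (Red.bc t A).left) a b =
      (lam L (dn t a) (dn t b) : Pic T.left) := by
  unfold lam
  rw [pl_bc, pl_bc, pl_bc, dn_mul]

/-- `Ω`-points of `A` as rational points of `A_Ω`. -/
noncomputable def up {A : Over (Spec (CommRingCat.of K))} (x : Over.mk t ⟶ A) :
    𝟙_ (Over (Spec (CommRingCat.of Ω))) ⟶ Red.bc t A :=
  bcEquiv t (𝟙_ (Over (Spec (CommRingCat.of Ω)))) A (Over.homMk x.left (by
    change x.left ≫ A.hom = 𝟙 _ ≫ t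
    rw [Category.id_comp]
    exact Over.w x))

theorem dn_up {A : Over (Spec (CommRingCat.of K))} (x : Over.mk t ⟶ A) : (dn t (up t x)).left = x.left := by
  rw [dn, up, Equiv.symm_apply_apply]
  rfl

theorem up_injective {A : Over (Spec (CommRingCat.of K))} : Function.Injective (up t (A := A)) := by
  intro x y h
  ext1
  rw [← dn_up t x, ← dn_up t y, h]

/-- The class over `Ω` is the pullback of the class over `K`. -/
theorem cl_up {A X : Over (Spec (CommRingCat.of K))} [GrpObj A] (L : Pic A.left) (φ : X ⟶ A) (x : Over.mk t ⟶ A)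
    (h : cl L φ x = 1) :
    cl (pull (pullback.fst A.hom t) L : Pic (Red.bc t A).left) ((Over.pullback t).map φ) (up t x) = 1 := by
  let XΩ : Over (Spec (CommRingCat.of Ω)) := (Over.pullback t).obj X
  let T : Over (Spec (CommRingCat.of Ω)) := XΩ ⊗ 𝟙_ _
  let q : T ⟶ Red.bc t X := fst XΩ (𝟙_ _)
  let g₁ : (Over.map t).obj T ⟶ X := dn t q
  let g₂ : (Over.map t).obj T ⟶ Over.mk t := Over.homMk T.hom rfl
  have h1 : dn t (fst XΩ (𝟙_ _) ≫ (Over.pullback t).map φ) = lift g₁ g₂ ≫ fst X (Over.mk t) ≫ φ := by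
    rw [lift_fst_assoc]
    exact dn_comp_map t q φ
  have h2 : dn t (snd XΩ (𝟙_ _) ≫ up t x) = lift g₁ g₂ ≫ snd X (Over.mk t) ≫ x := by
    rw [lift_snd_assoc, comp_dn]
    ext1
    rw [Over.comp_left, Over.comp_left, dn_up]
    congr 1
    change (snd XΩ (𝟙_ _)).left = T.hom
    exact (Category.comp_id _).symm.trans (Over.w (snd XΩ (𝟙_ _)))
  have h3 : pl (lift g₁ g₂) (cl L φ x) = 1 := by rw [h, map_one]
  rw [cl, pl_lam, ← h1, ← h2] at h3
  have h4 := lam_bc t L (fst XΩ (𝟙_ _) ≫ (Over.pullback t).map φ) (snd XΩ (𝟙_ _) ≫ up t x)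
  exact h4.trans h3

/-- The point of the base change. -/
noncomputable def σbc {X : Over (Spec (CommRingCat.of K))} (σ : 𝟙_ (Over (Spec (CommRingCat.of K))) ⟶ X) :
    𝟙_ (Over (Spec (CommRingCat.of Ω))) ⟶ Red.bc t X :=
  Over.homMk (pullback.lift (t ≫ σ.left) (𝟙 _) (by
    rw [Category.assoc, Over.w]
    exact (Category.comp_id _).trans (Category.id_comp _).symm)) (pullback.lift_snd _ _ _)

theorem σbc_fst {X : Over (Spec (CommRingCat.of K))} (σ : 𝟙_ (Over (Spec (CommRingCat.of K))) ⟶ X) :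
    (σbc t σ).left ≫ pullback.fst X.hom t = t ≫ σ.left := pullback.lift_fst _ _ _

theorem dn_ext {A : Over (Spec (CommRingCat.of K))} {T : Over (Spec (CommRingCat.of Ω))} {x y : T ⟶ Red.bc t A}
    (h : x.left ≫ pullback.fst A.hom t = y.left ≫ pullback.fst A.hom t) : x = y := by
  apply (bcEquiv t T A).symm.injective
  ext1
  change (dn t x).left = (dn t y).left
  rw [dn_left, dn_left, h]

section

attribute [local instance] Functor.grpObjObj

theorem pullback_map_inv {S S' : Scheme.{u}} (f : S' ⟶ S) {A X : Over S} [GrpObj A] (a : X ⟶ A) :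
    (Over.pullback f).map a⁻¹ = ((Over.pullback f).map a)⁻¹ :=
  map_inv (Functor.homMonoidHom (Over.pullback f) (X := X) (M := A)) a

end

/-- The normalised curve over `Ω`. -/
theorem map_norm {A X : Over (Spec (CommRingCat.of K))} [GrpObj A] (ψ : X ⟶ A)
    (σ : 𝟙_ (Over (Spec (CommRingCat.of K))) ⟶ X) :
    (Over.pullback t).map ((toUnit X ≫ (σ ≫ ψ)⁻¹) * ψ) =
      (toUnit (Red.bc t X) ≫ (σbc t σ ≫ (Over.pullback t).map ψ)⁻¹) * (Over.pullback t).map ψ := by
  rw [Functor.map_mul]
  congr 1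
  rw [GrpObj.comp_inv, GrpObj.comp_inv, pullback_map_inv]
  congr 1
  apply dn_ext
  have e : ∀ {Y Z : Over (Spec (CommRingCat.of K))} (g : Y ⟶ Z), ((Over.pullback t).map g).left ≫ pullback.fst Z.hom t =
      pullback.fst Y.hom t ≫ g.left := fun g => pullback.lift_fst _ _ _
  rw [e]
  simp only [Over.comp_left, Category.assoc]
  rw [e, reassoc_of% (σbc_fst t σ)]
  change pullback.fst X.hom t ≫ X.hom ≫ σ.left ≫ ψ.left = pullback.snd X.hom t ≫ t ≫ σ.left ≫ ψ.left
  rw [pullback.condition_assoc]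

/-- **Finiteness of the kernel** on points with values in an algebraically closed extension. -/
theorem finite_bc [IsAlgClosed Ω] (A : Over (Spec (CommRingCat.of K))) [GrpObj A]
    [IsProper A.hom] [GeometricallyIntegral A.hom] (M : A.left.Modules) (hM : CohB1.IsAmple M)
    (n : ℕ) (hn : (n : Ω) ≠ 0) (hn2 : 2 ≤ n)
    (X : Over (Spec (CommRingCat.of K))) [IsProper X.hom] [GeometricallyIntegral X.hom]
    (σ : 𝟙_ (Over (Spec (CommRingCat.of K))) ⟶ X) (ψ : X ⟶ A)
    (hconn : _root_.IsPreconnected ((𝟙 (Red.bc t A) ^ n : Red.bc t A ⟶ Red.bc t A).left ⁻¹'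
      Set.range ((Over.pullback t).map ψ).left)) :
    {x : Over.mk t ⟶ A | cl (mk M hM.1) ((toUnit X ≫ (σ ≫ ψ)⁻¹) * ψ) x = 1}.Finite := by
  have hp : IsProper (Red.bc t A).hom := inferInstanceAs (IsProper (pullback.snd A.hom t))
  have hgi : GeometricallyIntegral (Red.bc t A).hom :=
    inferInstanceAs (GeometricallyIntegral (pullback.snd A.hom t))
  have hpX : IsProper (Red.bc t X).hom := inferInstanceAs (IsProper (pullback.snd X.hom t))
  have hgiX : GeometricallyIntegral (Red.bc t X).hom :=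
    inferInstanceAs (GeometricallyIntegral (pullback.snd X.hom t))
  have hcomm : IsCommMonObj (Red.bc t A) := isCommMonObj_of_isProper_of_geometricallyIntegral _
  have ht : IsAffineHom t := inferInstance
  have haff : IsAffineHom (pullback.fst A.hom t) :=
    MorphismProperty.of_isPullback (P := @IsAffineHom) (IsPullback.of_hasPullback A.hom t).flip ht
  have hM' := Groth.Agent.Sga5.AmpleFib.isAmple_pullback (pullback.fst A.hom t) hM
  have hfin := FKFinite.finite_ker (Red.bc t A) _ hM' n hn hn2 (Red.bc t X) (σbc t σ) ((Over.pullback t).map ψ) hconn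
  refine Set.Finite.of_finite_image (f := up t) (hfin.subset ?_) (up_injective t).injOn
  rintro _ ⟨x, hx, rfl⟩
  have h1 := cl_up t (mk M hM.1) _ x hx
  rw [map_norm] at h1
  exact h1

end Groth.Agent.Sga7.H515.FKTransfer
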